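import Groth.Agent.H06EGA9.FlatLocallyConstructible
import Groth.Agent.H06EGA9.FibreMap

/-!
# Non-flatness on the generic fibre spreads to nearby fibres
-/

set_option autoImplicit false
set_option linter.style.haveILetI false

universe u

open CategoryTheory CategoryTheory.Limits AlgebraicGeometry TopologicalSpace Topology

namespace Groth.Agent.H8Props.Cons

theorem exists_open_of_isConstructible {T : Type*} [TopologicalSpace T] {η : T}
    (hη : ∀ t, η ⤳ t) {E : Set T} (hE : IsConstructible E) :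
    (η ∈ E → ∃ U : Set T, IsOpen U ∧ η ∈ U ∧ U ⊆ E) ∧ (η ∉ E → ∃ U : Set T, IsOpen U ∧ η ∈ U ∧ U ⊆ Eᶜ) := by
  induction hE using BooleanSubalgebra.closure_bot_sup_induction with
  | mem U hU =>
    refine ⟨fun h => ⟨U, hU.1, h, subset_rfl⟩, fun h => ⟨Set.univ, isOpen_univ, trivial, fun t _ ht => ?_⟩⟩
    exact h ((hη t).mem_open hU.1 ht)
  | bot => exact ⟨fun h => h.elim, fun _ => ⟨Set.univ, isOpen_univ, trivial, by simp⟩⟩
  | sup s _ t _ hs ht =>
    refine ⟨fun h => ?_, fun h => ?_⟩
    · rcases h with h | h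
      · obtain ⟨U, hU, hηU, hsub⟩ := hs.1 h
        exact ⟨U, hU, hηU, hsub.trans Set.subset_union_left⟩
      · obtain ⟨U, hU, hηU, hsub⟩ := ht.1 h
        exact ⟨U, hU, hηU, hsub.trans Set.subset_union_right⟩
    · obtain ⟨U, hU, hηU, hsub⟩ := hs.2 fun h' => h (Or.inl h')
      obtain ⟨V, hV, hηV, hsub'⟩ := ht.2 fun h' => h (Or.inr h')
      exact ⟨U ∩ V, hU.inter hV, ⟨hηU, hηV⟩, fun x hx => by
        rintro (h' | h')
        · exact hsub hx.1 h'
        · exact hsub' hx.2 h'⟩
  | compl s _ hs => exact ⟨hs.2, fun h => by rw [compl_compl]; exact hs.1 (not_not.1 h)⟩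

open H06EGA9 in
theorem isFlatOver_fibMap_iff {X Y S : Scheme.{u}} (g : X ⟶ Y) (h : Y ⟶ S) (F : X.Modules) (s : S) :
    FlatMod.IsFlatOver (fibMap g h s)
        ((Scheme.Modules.pullback (pullback.fst (g ≫ h) (S.fromSpecResidueField s))).obj F) ↔
      (g ≫ h) ⁻¹' {s} ⊆ {x | FibFlatAt g h F x} := by
  have hP : IsPullback (pullback.fst h (S.fromSpecResidueField s)) (pullback.snd h (S.fromSpecResidueField s))
      h (S.fromSpecResidueField s) := IsPullback.of_hasPullback _ _
  constructor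
  · intro H x hx
    obtain ⟨z, rfl⟩ := (range_fst (g ≫ h) s).symm.subset hx
    exact (isFlatOverAt_fibre_iff hP (isPullback_fibMap g h s) F z).1 (H z)
  · intro H z
    exact (isFlatOverAt_fibre_iff hP (isPullback_fibMap g h s) F z).2
      (H ((range_fst (g ≫ h) s).subset (Set.mem_range_self z)))

end Groth.Agent.H8Props.Cons
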